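-- helper38: S2272 assembly (product of two nontrivial classes of PSL_d(F), d ≥ 3, is not a single class).
-- Route: "trace = 0" of a lift is a PSL-conjugacy invariant (helper59 CPT0); normalise A e₀ = e₁, B e₀ = e₂
-- (helper68 CPT1); conjugating B by the transvection T = 1 + c₁E₀₁ + c₂E₀₂ changes tr(A·TBT⁻¹) by an explicit
-- quadratic polynomial in (c₁, c₂) with c₁c₂-coefficient −1 (helper20 CPT2), which cannot keep "t = 0" constant.
import Mathlib
import Cfsg.Agent.Helper59.CPT0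
import Cfsg.Agent.Helper68.CPT1
import Cfsg.Agent.Helper20.CPT2

set_option autoImplicit false

namespace Cfsg.Agent.Helper38.CP

open Matrix

variable {F : Type*} [Field F] {d : ℕ}

local notation "SL" => Matrix.SpecialLinearGroup (Fin d) F
local notation "PSL" => Matrix.ProjectiveSpecialLinearGroup (Fin d) F

/-- the field lemma: `t + (c₁α₁ + c₂α₂) - c₁c₂ = 0 ↔ t = 0` cannot hold for all `c₁ c₂`. -/
theorem field_aux (t α₁ α₂ : F)
    (h : ∀ c₁ c₂ : F, (t + (c₁ * α₁ + c₂ * α₂) - c₁ * c₂ = 0 ↔ t = 0)) : False := by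
  by_cases ht : t = 0
  · subst ht
    have h10 := (h 1 0).mpr rfl
    have h01 := (h 0 1).mpr rfl
    have h11 := (h 1 1).mpr rfl
    simp at h10 h01
    subst h10 h01
    simp at h11
  · have hne : ∀ c₁ c₂ : F, t + (c₁ * α₁ + c₂ * α₂) - c₁ * c₂ ≠ 0 := fun c₁ c₂ hc => ht ((h c₁ c₂).mp hc)
    have ha1 : α₁ = 0 := by
      by_contra h1
      apply hne (-t / α₁) 0
      field_simp
      ring
    have ha2 : α₂ = 0 := by
      by_contra h2
      apply hne 0 (-t / α₂)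
      field_simp
      ring
    subst ha1 ha2
    apply hne t 1
    ring

theorem final (hd : 3 ≤ d) (a b : PSL) (ha : a ≠ 1) (hb : b ≠ 1) :
    ∃ g h : PSL, ¬ IsConj (a * b) (g * a * g⁻¹ * (h * b * h⁻¹)) := by
  by_contra hcon
  push Not at hcon
  obtain ⟨A₀, rfl⟩ := QuotientGroup.mk_surjective a
  obtain ⟨B₀, rfl⟩ := QuotientGroup.mk_surjective b
  have hA₀ : A₀ ∉ Subgroup.center SL := fun hmem => ha ((QuotientGroup.eq_one_iff A₀).mpr hmem)
  have hB₀ : B₀ ∉ Subgroup.center SL := fun hmem => hb ((QuotientGroup.eq_one_iff B₀).mpr hmem)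
  let i₀ : Fin d := ⟨0, by omega⟩
  let i₁ : Fin d := ⟨1, by omega⟩
  let i₂ : Fin d := ⟨2, by omega⟩
  have h01 : i₀ ≠ i₁ := by simp [i₀, i₁, Fin.ext_iff]
  have h02 : i₀ ≠ i₂ := by simp [i₀, i₂, Fin.ext_iff]
  have h12 : i₁ ≠ i₂ := by simp [i₁, i₂, Fin.ext_iff]
  obtain ⟨g₁, hg₁⟩ := Cfsg.Agent.Helper68.CP.exists_conj_col hd A₀ hA₀ i₀ i₁ h01.symm
  obtain ⟨h₁, hh₁⟩ := Cfsg.Agent.Helper68.CP.exists_conj_col hd B₀ hB₀ i₀ i₂ h02.symm
  set A : SL := g₁ * A₀ * g₁⁻¹ with hAdef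
  set B : SL := h₁ * B₀ * h₁⁻¹ with hBdef
  -- the invariant
  have key : ∀ T : SL, ((A * (T * B * T⁻¹)).1.trace = 0 ↔ (A₀ * B₀).1.trace = 0) := by
    intro T
    have hc := hcon (QuotientGroup.mk g₁) (QuotientGroup.mk (T * h₁))
    have e : ((QuotientGroup.mk g₁ : PSL) * QuotientGroup.mk A₀ * (QuotientGroup.mk g₁)⁻¹ *
        (QuotientGroup.mk (T * h₁) * QuotientGroup.mk B₀ * (QuotientGroup.mk (T * h₁))⁻¹)) =
        QuotientGroup.mk (A * (T * B * T⁻¹)) := by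
      rw [hAdef, hBdef]
      simp only [QuotientGroup.mk_mul, QuotientGroup.mk_inv, _root_.mul_inv_rev, mul_assoc]
    rw [e, ← QuotientGroup.mk_mul] at hc
    exact (Cfsg.Agent.Helper59.CP.trace_eq_zero_iff_of_isConj _ _ hc).symm
  have key1 : ((A * B).1.trace = 0 ↔ (A₀ * B₀).1.trace = 0) := by
    have := key 1
    simpa using this
  apply field_aux (A * B).1.trace (B.1 i₁ i₁ - A.1 i₁ i₂) (B.1 i₂ i₁ - A.1 i₂ i₂)
  intro c₁ c₂
  obtain ⟨T, hT⟩ := Cfsg.Agent.Helper20.CP.exists_trace_conj A B i₀ i₁ i₂ h01 h02 h12 hg₁ hh₁ c₁ c₂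
  have := key T
  rw [hT] at this
  rw [key1, ← this]
  constructor <;> intro h <;> rw [← h] <;> ring

end Cfsg.Agent.Helper38.CP
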